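import Mathlib
import Groth.Agent.NormalLib.CompleteLocal
import Groth.Agent.HenselLib.Criteria

/-!
# Arcs in complete local rings

In a noetherian local ring the primes of coheight one meet in the nilradical (unless the ring is zero
dimensional); for a complete ring each of them is the kernel of a finite local map to a discrete valuation ring.
-/

set_option autoImplicit false

universe u

open IsLocalRing

namespace DimOneDvr

/-- A prime avoiding a given element, maximal for this, has coheight one when it is not maximal. -/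
theorem exists_coheightOne_notMem {A : Type u} [CommRing A] [IsLocalRing A] [IsNoetherianRing A] {b : A}
    (hb : ¬ IsNilpotent b) (hbm : b ∈ maximalIdeal A) :
    ∃ P : Ideal A, P.IsPrime ∧ b ∉ P ∧ ∀ Q : Ideal A, Q.IsPrime → P < Q → Q = maximalIdeal A := by
  obtain ⟨P, ⟨hP, hbP⟩, hmax⟩ := set_has_maximal_iff_noetherian.mpr (inferInstance : IsNoetherian A A)
    {P : Ideal A | P.IsPrime ∧ b ∉ P} (by
      by_contra h
      exact hb (nilpotent_iff_mem_prime.mpr fun J hJ => by_contra fun hbJ => h ⟨J, hJ, hbJ⟩))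
  refine ⟨P, hP, hbP, fun Q hQ hPQ => ?_⟩
  haveI := hP
  haveI := hQ
  let C := A ⧸ P
  let π := Ideal.Quotient.mk P
  have hnz : ∀ R : Ideal C, R.IsPrime → R ≠ ⊥ → π b ∈ R := fun R hR hR0 => by
    by_contra hbR
    have hle : P ≤ R.comap π := fun p hp => by
      rw [Ideal.mem_comap, show π p = 0 from Ideal.Quotient.eq_zero_iff_mem.mpr hp]
      exact zero_mem _
    refine hmax (R.comap π) ⟨hR.comap π, hbR⟩ (lt_of_le_of_ne hle fun h => hR0 ?_)
    rw [← Ideal.map_comap_of_surjective π Ideal.Quotient.mk_surjective R, ← h, Ideal.map_quotient_self]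
  have hb0 : π b ≠ 0 := fun h => hbP (Ideal.Quotient.eq_zero_iff_mem.mp h)
  let S := (Ideal.span {π b}).minimalPrimes
  have hSfin : S.Finite := Ideal.finite_minimalPrimes_of_isNoetherianRing C _
  have hsub : ((maximalIdeal A).map π : Set C) ⊆ ⋃ R ∈ S, id R := fun x hx => by
    rcases eq_or_ne x 0 with rfl | hx0
    · obtain ⟨R, hR⟩ := Ideal.nonempty_minimalPrimes (I := Ideal.span {π b}) (by
        rw [Ne, Ideal.span_singleton_eq_top]
        intro hu
        haveI : IsLocalHom π := IsLocalHom.of_surjective π Ideal.Quotient.mk_surjective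
        exact (mem_maximalIdeal _).mp hbm (isUnit_of_map_unit π b hu))
      exact Set.mem_biUnion hR (zero_mem R)
    have hxne : Ideal.span {x} ≠ ⊤ := fun h => by
      have h1 : (maximalIdeal A).map π ≠ ⊤ := fun h' => by
        have h2 := congrArg (Ideal.comap π) h'
        rw [Ideal.comap_map_of_surjective π Ideal.Quotient.mk_surjective, ← RingHom.ker_eq_comap_bot,
          Ideal.mk_ker, sup_eq_left.mpr (le_maximalIdeal hP.ne_top), Ideal.comap_top] at h2
        exact (maximalIdeal.isMaximal A).ne_top h2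
      exact h1 (eq_top_iff.mpr (h.symm.trans_le ((Ideal.span_singleton_le_iff_mem _).mpr hx)))
    obtain ⟨R, hR⟩ := Ideal.nonempty_minimalPrimes hxne
    haveI hRp : R.IsPrime := hR.1.1
    have hxR : x ∈ R := hR.1.2 (Ideal.mem_span_singleton_self x)
    have hR0 : R ≠ ⊥ := fun h => hx0 (by simpa [h] using hxR)
    refine Set.mem_biUnion (show R ∈ S from ⟨⟨hRp, (Ideal.span_singleton_le_iff_mem _).mpr (hnz R hRp hR0)⟩,
      fun R' hR' hle => ?_⟩) hxR
    by_contra hge
    haveI hR'p : R'.IsPrime := hR'.1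
    have h1 : R' < R := lt_of_le_not_ge hle hge
    have h2 : (⊥ : Ideal C) < R' := bot_lt_iff_ne_bot.mpr fun h =>
      hb0 (by simpa [h] using hR'.2 (Ideal.mem_span_singleton_self _))
    have hh : R.height ≤ 1 := Ideal.height_le_one_of_isPrincipal_of_mem_minimalPrimes (Ideal.span {x}) R hR
    have h3 := Ideal.height_strict_mono_of_isPrime h1
    have h4 := Ideal.height_strict_mono_of_isPrime h2
    exact absurd (lt_of_lt_of_le h3 hh) (not_lt.mpr (Order.one_le_iff_pos.mpr (lt_of_le_of_lt zero_le h4)))
  obtain ⟨R, hR, hle⟩ := (Ideal.subset_union_prime_finite hSfin (f := id) ⊥ ⊥ fun R hR _ _ => hR.1.1).mp hsub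
  have hbQ : b ∈ Q := by_contra fun h => hmax Q ⟨hQ, h⟩ hPQ
  have hQR : (Ideal.span {π b}) ≤ Q.map π := (Ideal.span_singleton_le_iff_mem _).mpr (Ideal.mem_map_of_mem _ hbQ)
  have hQp : (Q.map π).IsPrime :=
    Ideal.map_isPrime_of_surjective Ideal.Quotient.mk_surjective (by rw [Ideal.mk_ker]; exact hPQ.le)
  have hRQ : R ≤ Q.map π := hR.2 ⟨hQp, hQR⟩ ((Ideal.map_mono (le_maximalIdeal hQ.ne_top)).trans hle)
  refine le_antisymm (le_maximalIdeal hQ.ne_top) fun a ha => ?_
  have h := hRQ (hle (Ideal.mem_map_of_mem π ha))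
  rw [← Ideal.mem_comap, Ideal.comap_map_of_surjective π Ideal.Quotient.mk_surjective,
    ← RingHom.ker_eq_comap_bot, Ideal.mk_ker, sup_eq_left.mpr hPQ.le] at h
  exact h

/-- A domain finite over a complete local ring is local. -/
theorem isLocalRing_of_finite_domain {A B : Type u} [CommRing A] [IsLocalRing A] [IsNoetherianRing A]
    [IsAdicComplete (maximalIdeal A) A] [CommRing B] [IsDomain B] [Algebra A B] [Module.Finite A B] :
    IsLocalRing B := by
  let mB := (maximalIdeal A).map (algebraMap A B)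
  haveI : Module.Finite (A ⧸ maximalIdeal A) (B ⧸ mB) := Module.Finite.of_restrictScalars_finite A _ _
  letI : Field (A ⧸ maximalIdeal A) := Ideal.Quotient.field (maximalIdeal A)
  haveI : IsArtinianRing (B ⧸ mB) := IsArtinianRing.of_finite (A ⧸ maximalIdeal A) _
  have hjac : mB ≤ Ideal.jacobson ⊥ :=
    HenselLib.map_le_jacobson_bot (IsLocalRing.jacobson_eq_maximalIdeal ⊥ bot_ne_top).ge
  refine IsLocalRing.of_unique_max_ideal (existsUnique_of_exists_of_unique (Ideal.exists_maximal B) ?_)
  intro M N hM hN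
  by_contra hne
  haveI := hM
  haveI := hN
  haveI := hM.isPrime
  haveI := hN.isPrime
  let q : ∀ I : Ideal B, I.IsPrime → mB ≤ I → PrimeSpectrum (B ⧸ mB) := fun I hI hle =>
    ⟨I.map (Ideal.Quotient.mk mB), Ideal.map_isPrime_of_surjective Ideal.Quotient.mk_surjective
      (by rw [Ideal.mk_ker]; exact hle)⟩
  let p₁ := q M hM.isPrime (hjac.trans (sInf_le ⟨bot_le, hM⟩))
  let p₂ := q N hN.isPrime (hjac.trans (sInf_le ⟨bot_le, hN⟩))
  have hpne : p₁ ≠ p₂ := fun h => hne (by
    have h' := congrArg (fun p => p.asIdeal.comap (Ideal.Quotient.mk mB)) h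
    simpa [p₁, p₂, q, Ideal.comap_map_of_surjective _ Ideal.Quotient.mk_surjective, ← RingHom.ker_eq_comap_bot,
      hjac.trans (sInf_le ⟨bot_le, hM⟩ : Ideal.jacobson (⊥ : Ideal B) ≤ M),
      hjac.trans (sInf_le ⟨bot_le, hN⟩ : Ideal.jacobson (⊥ : Ideal B) ≤ N)] using h')
  haveI : DiscreteTopology (PrimeSpectrum (B ⧸ mB)) := inferInstance
  obtain ⟨e, he, hse⟩ := PrimeSpectrum.exists_idempotent_basicOpen_eq_of_isClopen (isClopen_discrete {p₁})
  obtain ⟨b, rfl⟩ := Ideal.Quotient.mk_surjective e
  obtain ⟨d, hd, hdb⟩ := HenselLib.exists_idempotent_lift (I := maximalIdeal A) b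
    (Ideal.Quotient.eq.mp (by rw [map_mul]; exact he))
  have hde : Ideal.Quotient.mk mB b = Ideal.Quotient.mk mB d := (Ideal.Quotient.eq.mpr hdb).symm
  rcases (mul_eq_zero.mp (show d * (d - 1) = 0 by rw [mul_sub, mul_one, hd.eq, sub_self])).imp id sub_eq_zero.mp with rfl | rfl
  · have h1 : p₁ ∈ ({p₁} : Set (PrimeSpectrum (B ⧸ mB))) := rfl
    rw [hse, hde] at h1
    simp at h1
  · have h1 : p₂ ∈ (PrimeSpectrum.basicOpen (Ideal.Quotient.mk mB b) : Set _) := by rw [hde]; simp
    rw [← hse] at h1
    exact hpne h1.symm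

/-- A coheight-one prime of a complete local ring is the kernel of a finite local map to a DVR. -/
theorem exists_dvr_of_coheightOne {A : Type u} [CommRing A] [IsLocalRing A] [IsNoetherianRing A]
    [IsAdicComplete (maximalIdeal A) A] (P : Ideal A) [hP : P.IsPrime] (hPm : P ≠ maximalIdeal A)
    (h : ∀ Q : Ideal A, Q.IsPrime → P < Q → Q = maximalIdeal A) :
    ∃ (V : Type u) (_ : CommRing V) (_ : IsDomain V) (_ : IsDiscreteValuationRing V) (φ : A →+* V),
      IsLocalHom φ ∧ φ.Finite ∧ RingHom.ker φ = P := by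
  let C := A ⧸ P
  haveI : IsLocalRing C := IsLocalRing.of_surjective' (Ideal.Quotient.mk P) Ideal.Quotient.mk_surjective
  haveI := NormalLib.isAdicComplete_quotient_local (R := A) P
  haveI : Ring.DimensionLEOne C := ⟨fun {R} hR0 hR => by
    have hle : P ≤ R.comap (Ideal.Quotient.mk P) := fun p hp => by
      rw [Ideal.mem_comap, Ideal.Quotient.eq_zero_iff_mem.mpr hp]
      exact zero_mem _
    rcases eq_or_lt_of_le hle with he | hlt
    · refine absurd ?_ hR0
      rw [← Ideal.map_comap_of_surjective _ Ideal.Quotient.mk_surjective R, ← he, Ideal.map_quotient_self]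
    · have := h _ (hR.comap _) hlt
      rw [← Ideal.map_comap_of_surjective _ Ideal.Quotient.mk_surjective R, this]
      refine (Ideal.map_eq_top_or_isMaximal_of_surjective _ Ideal.Quotient.mk_surjective
        (maximalIdeal.isMaximal A)).resolve_left fun ht => hR.ne_top ?_
      rw [← Ideal.map_comap_of_surjective _ Ideal.Quotient.mk_surjective R, this, ht]⟩
  let K := FractionRing C
  let V := integralClosure C K
  haveI hfin : Module.Finite C V := NormalLib.isN2_of_isAdicComplete_local C K inferInstance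
  haveI : IsLocalRing V := isLocalRing_of_finite_domain (A := C) (B := V)
  haveI : IsNoetherianRing V := isNoetherian_of_tower C (isNoetherian_of_isNoetherianRing_of_finite C V)
  haveI : IsIntegrallyClosed V := integralClosure.isIntegrallyClosedOfFiniteExtension K
  haveI : IsDedekindDomain V := { }
  have hnf : ¬ IsField V := fun hV => hPm (by
    have hC := isField_of_isIntegral_of_isField (R := C) (S := V)
      (fun a b hab => IsFractionRing.injective C K (congrArg Subtype.val hab)) hV
    exact IsLocalRing.eq_maximalIdeal ((Ideal.Quotient.maximal_ideal_iff_isField_quotient P).mpr hC))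
  haveI : IsDiscreteValuationRing V := ((IsDiscreteValuationRing.TFAE V hnf).out 0 2).mpr (inferInstance : IsDedekindDomain V)
  have hinj : Function.Injective (algebraMap C V) := fun a b hab =>
    IsFractionRing.injective C K (congrArg Subtype.val hab)
  refine ⟨V, inferInstance, inferInstance, inferInstance, (algebraMap C V).comp (Ideal.Quotient.mk P), ?_,
    (RingHom.finite_algebraMap.mpr hfin).comp (RingHom.Finite.of_surjective _ Ideal.Quotient.mk_surjective), ?_⟩
  · haveI : IsLocalHom (algebraMap C V) :=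
      RingHom.IsIntegral.isLocalHom (fun x => Algebra.IsIntegral.isIntegral x) hinj
    haveI : IsLocalHom (Ideal.Quotient.mk P) := IsLocalHom.of_surjective _ Ideal.Quotient.mk_surjective
    exact RingHom.isLocalHom_comp _ _
  · ext a
    rw [RingHom.mem_ker, RingHom.comp_apply, map_eq_zero_iff _ hinj, Ideal.Quotient.eq_zero_iff_mem]

end DimOneDvr
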